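import Cfsg.Agent.H662.HT.Frame

/-!
# S3540 / S3577, task C3a (helper486): frames of five anticommuting involutions in dimension 4 over `F_7`

`seven_unique`, `seven_type`.
-/

set_option autoImplicit false

open scoped commutatorElement
open Finset

namespace Cfsg.Agent.H486.HT

open Cfsg.Agent.H662.HT Cfsg.Agent.H828.HT

universe u v

/-! ### the product relation -/

section prod

variable {p : ℕ} {M : Type u} [AddCommGroup M] [Module (ZMod p) M]

/-- a frame, in terms of linear maps -/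
structure Fr (T : Fin 5 → (M →ₗ[ZMod p] M)) : Prop where
  sq : ∀ k v, T k (T k v) = v
  anti : ∀ j k, j ≠ k → ∀ v, T j (T k v) = -T k (T j v)
  prod : (∀ v, T 0 (T 1 (T 2 (T 3 (T 4 v)))) = v) ∨ (∀ v, T 0 (T 1 (T 2 (T 3 (T 4 v)))) = -v)

/-- the product relation for the ordering `f` -/
def Pr (T : Fin 5 → (M →ₗ[ZMod p] M)) (f : Fin 5 → Fin 5) : Prop :=
  (∀ v, T (f 0) (T (f 1) (T (f 2) (T (f 3) (T (f 4) v)))) = v) ∨
    (∀ v, T (f 0) (T (f 1) (T (f 2) (T (f 3) (T (f 4) v)))) = -v)

variable {T : Fin 5 → (M →ₗ[ZMod p] M)}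

theorem pr_swap (h : Fr T) {f : Fin 5 → Fin 5} (hf : Function.Injective f) (hP : Pr T f) (i : Fin 4) :
    Pr T (f ∘ Equiv.swap i.castSucc i.succ) := by
  have key : ∀ j k : Fin 5, j ≠ k → ∀ v, T (f j) (T (f k) v) = -T (f k) (T (f j) v) :=
    fun j k hjk => h.anti _ _ (fun h => hjk (hf h))
  fin_cases i
  · change (∀ v, T (f 1) (T (f 0) (T (f 2) (T (f 3) (T (f 4) v)))) = v) ∨
      (∀ v, T (f 1) (T (f 0) (T (f 2) (T (f 3) (T (f 4) v)))) = -v)
    rcases hP with h1 | h1
    · right; intro v; rw [key 1 0 (by decide), h1]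
    · left; intro v; rw [key 1 0 (by decide), h1, neg_neg]
  · change (∀ v, T (f 0) (T (f 2) (T (f 1) (T (f 3) (T (f 4) v)))) = v) ∨
      (∀ v, T (f 0) (T (f 2) (T (f 1) (T (f 3) (T (f 4) v)))) = -v)
    rcases hP with h1 | h1
    · right; intro v; rw [key 2 1 (by decide), map_neg, h1]
    · left; intro v; rw [key 2 1 (by decide), map_neg, h1, neg_neg]
  · change (∀ v, T (f 0) (T (f 1) (T (f 3) (T (f 2) (T (f 4) v)))) = v) ∨
      (∀ v, T (f 0) (T (f 1) (T (f 3) (T (f 2) (T (f 4) v)))) = -v)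
    rcases hP with h1 | h1
    · right; intro v; rw [key 3 2 (by decide), map_neg, map_neg, h1]
    · left; intro v; rw [key 3 2 (by decide), map_neg, map_neg, h1, neg_neg]
  · change (∀ v, T (f 0) (T (f 1) (T (f 2) (T (f 4) (T (f 3) v)))) = v) ∨
      (∀ v, T (f 0) (T (f 1) (T (f 2) (T (f 4) (T (f 3) v)))) = -v)
    rcases hP with h1 | h1
    · right; intro v; rw [key 4 3 (by decide), map_neg, map_neg, map_neg, h1]
    · left; intro v; rw [key 4 3 (by decide), map_neg, map_neg, map_neg, h1, neg_neg]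

theorem prod_perm (h : Fr T) (τ : Equiv.Perm (Fin 5)) : Pr T τ := by
  have h1 : τ ∈ Submonoid.closure (Set.range fun i : Fin 4 => Equiv.swap i.castSucc i.succ) := by
    rw [Equiv.Perm.mclosure_swap_castSucc_succ]; trivial
  induction h1 using Submonoid.closure_induction_right with
  | one => exact h.prod
  | mul_right x hx y hy ih =>
    obtain ⟨i, rfl⟩ := hy
    exact pr_swap h x.injective ih i

theorem inj_of {a b c d e : Fin 5} (hn : [a, b, c, d, e].Nodup) : Function.Injective ![a, b, c, d, e] :=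
  List.nodup_ofFn.1 (by simpa using hn)

theorem exh {a b c d e : Fin 5} (hn : [a, b, c, d, e].Nodup) (i : Fin 5) :
    i = a ∨ i = b ∨ i = c ∨ i = d ∨ i = e := by
  obtain ⟨j, rfl⟩ := (Finite.injective_iff_surjective.1 (inj_of hn)) i
  fin_cases j <;> simp

theorem prod' (h : Fr T) {a b c d e : Fin 5} (hn : [a, b, c, d, e].Nodup) :
    ∃ η : ZMod p, η * η = 1 ∧ ∀ v, T a (T b (T c (T d (T e v)))) = η • v := by
  rcases prod_perm h (Equiv.ofBijective _ (Finite.injective_iff_bijective.1 (inj_of hn))) with h1 | h1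
  · exact ⟨1, by ring, fun v => by rw [one_smul]; exact h1 v⟩
  · exact ⟨-1, by ring, fun v => by rw [neg_smul, one_smul]; exact h1 v⟩

theorem exists_compl : ∀ a b k : Fin 5, a ≠ b → a ≠ k → b ≠ k → ∃ c d : Fin 5, [a, b, c, d, k].Nodup := by
  decide

end prod

theorem four_two : (4 * 2 : ZMod 7) = 1 := by decide

theorem no_sqrt : ∀ c : ZMod 7, c * c ≠ -1 := by decide

theorem no_sqrt2 : ∀ c e : ZMod 7, e * e = 1 → (e * c) * (e * c) + c * c ≠ -1 := by decide

theorem sign : ∀ e : ZMod 7, e * e = 1 → e = 1 ∨ e = -1 := by decide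

section seven

variable {M : Type u} [AddCommGroup M] [Fact (Nat.Prime 7)] [Module (ZMod 7) M]

theorem eq_zero_of_neg {v : M} (h : v = -v) : v = 0 := by
  have h1 : (2 : ZMod 7) • v = 0 := by
    rw [two_smul]
    nth_rewrite 1 [h]
    rw [neg_add_cancel]
  have h2 : (4 : ZMod 7) • ((2 : ZMod 7) • v) = v := by
    rw [smul_smul]
    rw [four_two, one_smul]
  rw [← h2, h1, smul_zero]

theorem half_half (v : M) : (4 : ZMod 7) • (v + v) = v := by
  rw [← two_smul (ZMod 7), smul_smul]
  rw [four_two, one_smul]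

/-- the fixed space of an involution `S` in a frame is spanned by `v` and `X v` -/
theorem span_of [Finite M] (hM : Nat.card M = 7 ^ 4) {S A X : M →ₗ[ZMod 7] M} (hS : ∀ v, S (S v) = v)
    (hA : ∀ v, A (A v) = v) (hAS : ∀ v, S (A v) = -A (S v)) (hX : ∀ v, X (X v) = -v)
    (hXS : ∀ v, X (S v) = S (X v)) {v : M} (hv : v ≠ 0) (hSv : S v = v) {u : M} (hu : S u = u) :
    ∃ α β : ZMod 7, u = α • v + β • X v := by
  let U : Submodule (ZMod 7) M := LinearMap.ker (S - LinearMap.id)
  have hU : ∀ w, w ∈ U ↔ S w = w := by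
    intro w
    simp [U, sub_eq_zero]
  -- the order of `U`
  have hcard : Nat.card U = 49 := by
    let f : U × U → M := fun x => (x.1 : M) + A (x.2 : M)
    have hinj : Function.Injective f := by
      rintro ⟨⟨a, ha⟩, ⟨b, hb⟩⟩ ⟨⟨c, hc⟩, ⟨d, hd⟩⟩ h
      rw [hU] at ha hb hc hd
      change a + A b = c + A d at h
      have h1 : S (a + A b) = S (c + A d) := by rw [h]
      rw [map_add, map_add, hAS, hAS, ha, hb, hc, hd] at h1
      have h2 : a + a = c + c := by
        have := congrArg₂ (· + ·) h h1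
        calc a + a = (a + A b) + (a + -A b) := by abel
          _ = (c + A d) + (c + -A d) := this
          _ = c + c := by abel
      have h3 : a = c := by rw [← half_half a, h2, half_half]
      subst h3
      have h4 : A b = A d := add_left_cancel h
      have h5 : b = d := by rw [← hA b, h4, hA]
      subst h5
      rfl
    have hsurj : Function.Surjective f := by
      intro w
      refine ⟨⟨⟨(4 : ZMod 7) • (w + S w), ?_⟩, ⟨(4 : ZMod 7) • A (w - S w), ?_⟩⟩, ?_⟩
      · rw [hU, map_smul, map_add, hS, add_comm]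
      · rw [hU, map_smul, hAS, map_sub, hS, ← map_neg, neg_sub]
      · change (4 : ZMod 7) • (w + S w) + A ((4 : ZMod 7) • A (w - S w)) = w
        rw [map_smul, hA, ← smul_add]
        have : w + S w + (w - S w) = w + w := by abel
        rw [this, half_half]
    have h1 := Nat.card_congr (Equiv.ofBijective f ⟨hinj, hsurj⟩)
    rw [Nat.card_prod, hM] at h1
    have h2 : Nat.card U * Nat.card U = 49 * 49 := by rw [h1]; norm_num
    exact Nat.mul_self_inj.1 h2
  have hXv : ∀ c : ZMod 7, X v ≠ c • v := by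
    intro c hc
    have h1 := hX v
    rw [hc, map_smul, hc, smul_smul] at h1
    have h2 : (c * c + 1) • v = 0 := by rw [add_smul, h1, one_smul, neg_add_cancel]
    rcases smul_eq_zero.1 h2 with h3 | h3
    · exact no_sqrt c (eq_neg_of_add_eq_zero_left h3)
    · exact hv h3
  let g : ZMod 7 × ZMod 7 → U := fun x => ⟨x.1 • v + x.2 • X v, by
    rw [hU, map_add, map_smul, map_smul, hSv, ← hXS, hSv]⟩
  have hg : Function.Injective g := by
    rintro ⟨a, b⟩ ⟨c, d⟩ h
    have h1 : a • v + b • X v = c • v + d • X v := congrArg Subtype.val h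
    have h2 : (b - d) • X v = (c - a) • v := by
      rw [sub_smul, sub_smul, sub_eq_sub_iff_add_eq_add, add_comm, h1, add_comm]
    by_cases hbd : b - d = 0
    · rw [hbd, zero_smul] at h2
      rcases smul_eq_zero.1 h2.symm with h3 | h3
      · rw [Prod.mk.injEq]
        exact ⟨(sub_eq_zero.1 h3).symm, sub_eq_zero.1 hbd⟩
      · exact absurd h3 hv
    · exfalso
      refine hXv ((b - d)⁻¹ * (c - a)) ?_
      rw [mul_smul, ← h2, smul_smul, inv_mul_cancel₀ hbd, one_smul]
  have hg2 : Function.Bijective g := by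
    refine (Nat.bijective_iff_injective_and_card g).2 ⟨hg, ?_⟩
    rw [hcard, Nat.card_prod, Nat.card_zmod]
  obtain ⟨⟨a, b⟩, hab⟩ := hg2.2 ⟨u, (hU u).2 hu⟩
  exact ⟨a, b, (congrArg Subtype.val hab).symm⟩

/-- `Y` permutes the `± T k` -/
structure Nm (T : Fin 5 → (M →ₗ[ZMod 7] M)) (Y : M →ₗ[ZMod 7] M) (σ : Fin 5 → Fin 5) (ε : Fin 5 → ZMod 7) : Prop where
  sq : ∀ v, Y (Y v) = v
  sgn : ∀ k, ε k * ε k = 1
  perm : ∀ k v, Y (T k v) = ε k • T (σ k) (Y v)

variable {T : Fin 5 → (M →ₗ[ZMod 7] M)} {Y : M →ₗ[ZMod 7] M} {σ : Fin 5 → Fin 5} {ε : Fin 5 → ZMod 7}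

theorem eq_one_of_smul {c : ZMod 7} {v : M} (hv : v ≠ 0) (h : v = c • v) : c = 1 := by
  have h1 : (c - 1) • v = 0 := by rw [sub_smul, one_smul, ← h, sub_self]
  rcases smul_eq_zero.1 h1 with h2 | h2
  · exact sub_eq_zero.1 h2
  · exact absurd h2 hv

theorem Nm.invol (hF : Fr T) (hY : Nm T Y σ ε) {v : M} (hv : v ≠ 0) (k : Fin 5) :
    σ (σ k) = k ∧ ε k * ε (σ k) = 1 := by
  have h1 : ∀ w, T k w = (ε k * ε (σ k)) • T (σ (σ k)) w := by
    intro w
    have h2 := hY.sq (T k w)
    rw [hY.perm, map_smul, hY.perm, hY.sq, smul_smul] at h2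
    exact h2.symm
  have hc : (ε k * ε (σ k)) * (ε k * ε (σ k)) = 1 := by
    have h3 := hY.sgn k
    have h4 := hY.sgn (σ k)
    linear_combination h3 * (ε (σ k) * ε (σ k)) + h4
  have h2 : σ (σ k) = k := by
    by_contra hne
    have h3 := hF.anti _ _ hne v
    rw [h1 v, map_smul, hF.sq] at h3
    have h4 : T k (T (σ (σ k)) v) = (ε k * ε (σ k)) • v := by
      rw [h1, hF.sq]
    rw [h4] at h3
    have h5 := eq_zero_of_neg h3
    have h6 : v = 0 := by
      rw [← one_smul (ZMod 7) v, ← hc, mul_smul, h5, smul_zero]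
    exact hv h6
  refine ⟨h2, ?_⟩
  have h3 := h1 (T k v)
  rw [h2, hF.sq] at h3
  exact eq_one_of_smul hv h3

/-- case A: `Y` is trivial on the fixed space of `δ T k` -/
theorem caseA (hF : Fr T) (hY : Nm T Y σ ε) {k : Fin 5} {δ : ZMod 7} (hδ : δ * δ = 1) {v : M} (hv : v ≠ 0)
    (hTv : T k v = δ • v) (hfix : ∀ u, T k u = δ • u → Y u = u) (hY1 : ∃ w, Y w ≠ w)
    (hσk : σ k = k) : ∀ w, Y w = δ • T k w := by
  obtain ⟨a, hak⟩ : ∃ a : Fin 5, a ≠ k := exists_ne k
  have hinv := hY.invol hF hv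
  have hσa : σ a = a := by
    by_contra hb
    have hbk : σ a ≠ k := by
      intro h
      have := (hinv a).1
      rw [h, hσk] at this
      exact hak this.symm
    -- `T a T b v` is in the fixed space
    have h1 : T k (T a (T (σ a) v)) = δ • T a (T (σ a) v) := by
      rw [hF.anti k a (Ne.symm hak), hF.anti k (σ a) (Ne.symm hbk), map_neg, neg_neg, hTv, map_smul, map_smul]
    have h2 := hfix _ h1
    rw [hY.perm, hY.perm, (hinv a).1, hfix v hTv, map_smul, smul_smul, (hinv a).2, one_smul,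
      hF.anti (σ a) a hb] at h2
    have h3 : T a (T (σ a) v) = 0 := eq_zero_of_neg h2.symm
    have h4 : v = 0 := by
      rw [← hF.sq (σ a) v, ← hF.sq a (T (σ a) v), h3, map_zero, map_zero]
    exact hv h4
  have hperm : ∀ w, Y (T a w) = ε a • T a (Y w) := by
    intro w; rw [hY.perm, hσa]
  -- decomposition
  have hdec : ∀ w, ∃ u u', T k u = δ • u ∧ T k u' = δ • u' ∧ w = u + T a u' := by
    intro w
    refine ⟨(4 : ZMod 7) • (w + δ • T k w), T a ((4 : ZMod 7) • (w - δ • T k w)), ?_, ?_, ?_⟩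
    · rw [map_smul, map_add, map_smul, hF.sq, smul_comm δ (4 : ZMod 7), smul_add δ, smul_smul, hδ, one_smul, add_comm]
    · have e1 : T k ((4 : ZMod 7) • (w - δ • T k w)) = -(δ • ((4 : ZMod 7) • (w - δ • T k w))) := by
        rw [map_smul, map_sub, map_smul, hF.sq, smul_comm δ (4 : ZMod 7), smul_sub δ, smul_smul δ δ, hδ, one_smul,
          ← smul_neg, neg_sub]
      rw [hF.anti k a (Ne.symm hak), e1, map_neg, neg_neg, map_smul]
    · rw [hF.sq, ← smul_add]
      have : w + δ • T k w + (w - δ • T k w) = w + w := by abel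
      rw [this, half_half]
  rcases sign _ (hY.sgn a) with h | h
  · exfalso
    obtain ⟨w, hw⟩ := hY1
    obtain ⟨u, u', hu, hu', rfl⟩ := hdec w
    apply hw
    rw [map_add, hperm, hfix u hu, hfix u' hu', h, one_smul]
  · intro w
    obtain ⟨u, u', hu, hu', rfl⟩ := hdec w
    rw [map_add, hperm, hfix u hu, hfix u' hu', h, map_add, hF.anti k a (Ne.symm hak), hu, hu', smul_add, smul_smul,
      hδ, one_smul, map_smul, ← smul_neg, smul_smul, hδ, one_smul, neg_smul, one_smul]

theorem span' [Finite M] (hM : Nat.card M = 7 ^ 4) (hF : Fr T) {k : Fin 5} {δ : ZMod 7} (hδ : δ * δ = 1)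
    {X : M →ₗ[ZMod 7] M} (hX : ∀ v, X (X v) = -v) (hXT : ∀ v, X (T k v) = T k (X v)) {v : M} (hv : v ≠ 0)
    (hTv : T k v = δ • v) {u : M} (hu : T k u = δ • u) : ∃ α β : ZMod 7, u = α • v + β • X v := by
  obtain ⟨a, hak⟩ : ∃ a : Fin 5, a ≠ k := exists_ne k
  have hS : ∀ w, (δ • T k) w = δ • T k w := fun w => rfl
  refine span_of hM (S := δ • T k) (A := T a) (X := X) ?_ (hF.sq a) ?_ hX ?_ hv ?_ ?_
  · intro w
    rw [hS, hS, map_smul, hF.sq, smul_smul, hδ, one_smul]
  · intro w
    rw [hS, hS, hF.anti k a (Ne.symm hak), map_smul, smul_neg]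
  · intro w
    rw [hS, hS, map_smul, hXT]
  · rw [hS, hTv, smul_smul, hδ, one_smul]
  · rw [hS, hu, smul_smul, hδ, one_smul]

theorem comp_sq (hF : Fr T) {j l : Fin 5} (hjl : j ≠ l) (w : M) : (T j ∘ₗ T l) ((T j ∘ₗ T l) w) = -w := by
  change T j (T l (T j (T l w))) = -w
  rw [hF.anti l j (Ne.symm hjl), map_neg, hF.sq, hF.sq]

theorem comp_comm (hF : Fr T) {j l k : Fin 5} (hj : j ≠ k) (hl : l ≠ k) (w : M) :
    (T j ∘ₗ T l) (T k w) = T k ((T j ∘ₗ T l) w) := by
  change T j (T l (T k w)) = T k (T j (T l w))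
  rw [hF.anti l k hl, map_neg, hF.anti j k hj, neg_neg]

omit [Fact (Nat.Prime 7)] in
theorem exists_two : ∀ k : Fin 5, ∃ a b : Fin 5, a ≠ k ∧ b ≠ k ∧ a ≠ b := by decide

/-- case B is impossible -/
theorem caseB [Finite M] (hM : Nat.card M = 7 ^ 4) (hF : Fr T) (hY : Nm T Y σ ε) {k : Fin 5} {δ : ZMod 7}
    (hδ : δ * δ = 1) {v : M} (hv : v ≠ 0) (hTv : T k v = δ • v) (hYv : Y v = v) (hσk : σ k = k) :
    ∀ u, T k u = δ • u → Y u = u := by
  by_contra hnf
  push Not at hnf
  have hinv := hY.invol hF hv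
  have key : ∀ X : M →ₗ[ZMod 7] M, (∀ v, X (X v) = -v) → (∀ v, X (T k v) = T k (X v)) → Y (X v) ≠ X v := by
    intro X hX hXT hc
    obtain ⟨u, hu, hne⟩ := hnf
    obtain ⟨α, β, rfl⟩ := span' hM hF hδ hX hXT hv hTv hu
    apply hne; rw [map_add, map_smul, map_smul, hYv, hc]
  obtain ⟨a, b, hak, hbk, hab, hσ⟩ : ∃ a b : Fin 5, a ≠ k ∧ b ≠ k ∧ a ≠ b ∧
      ((σ a = a ∧ σ b = b) ∨ (σ a = b ∧ σ b = a)) := by
    by_cases h : ∀ i, σ i = i
    · obtain ⟨a, b, h1, h2, h3⟩ := exists_two k
      exact ⟨a, b, h1, h2, h3, Or.inl ⟨h a, h b⟩⟩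
    · push Not at h
      obtain ⟨a, ha⟩ := h
      refine ⟨a, σ a, ?_, ?_, Ne.symm ha, Or.inr ⟨rfl, (hinv a).1⟩⟩
      · rintro rfl
        exact ha hσk
      · intro h
        have h1 := (hinv a).1
        rw [h, hσk] at h1
        rw [← h1] at ha
        exact ha hσk
  obtain ⟨c, d, hn⟩ := exists_compl a b k hab hak hbk
  have hn' := hn
  simp only [List.nodup_cons, List.mem_cons, not_or, List.not_mem_nil, not_false_eq_true, List.nodup_nil,
    and_true] at hn'
  obtain ⟨⟨-, hac, had, -⟩, ⟨hbc, hbd, -⟩, ⟨hcd, hck⟩, hdk⟩ := hn'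
  have hJJ := comp_sq hF hab
  have hJT := fun w => comp_comm hF hak hbk w
  have hII := comp_sq hF hac
  have hIT := fun w => comp_comm hF hak hck w
  set J := T a ∘ₗ T b with hJ
  set I := T a ∘ₗ T c with hI
  have hJw : ∀ w, J w = T a (T b w) := fun w => rfl
  have hIw : ∀ w, I w = T a (T c w) := fun w => rfl
  have hJI : ∀ w, J (I w) = -T b (T c w) := by
    intro w
    rw [hJw, hIw, hF.anti b a (Ne.symm hab), map_neg, hF.sq]
  have hIJ : ∀ w, I (J w) = -J (I w) := by
    intro w
    rw [hJI, hJw, hIw, hF.anti c a (Ne.symm hac), map_neg, hF.sq, hF.anti c b (Ne.symm hbc)]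
  have hXX : ∀ w, (J ∘ₗ I) ((J ∘ₗ I) w) = -w := by
    intro w
    change J (I (J (I w))) = -w
    rw [hIJ, map_neg, hJJ, hII, neg_neg]
  have hXT : ∀ w, (J ∘ₗ I) (T k w) = T k ((J ∘ₗ I) w) := by
    intro w
    change J (I (T k w)) = T k (J (I w))
    rw [hIT, hJT]
  have hYJ : ∃ e : ZMod 7, e * e = 1 ∧ ∀ w, Y (J w) = e • J (Y w) := by
    rcases hσ with ⟨h1, h2⟩ | ⟨h1, h2⟩
    · refine ⟨ε a * ε b, ?_, fun w => ?_⟩
      · linear_combination (hY.sgn a) * (ε b * ε b) + hY.sgn b
      · rw [hJw, hJw, hY.perm, hY.perm, map_smul, smul_smul, h1, h2]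
    · refine ⟨-1, by ring, fun w => ?_⟩
      have h3 := (hinv a).2
      rw [h1] at h3
      rw [hJw, hJw, hY.perm, hY.perm, map_smul, smul_smul, h1, h2, h3, one_smul, hF.anti b a (Ne.symm hab), neg_smul,
        one_smul]
  obtain ⟨e, he, hYJ⟩ := hYJ
  rcases sign e he with rfl | rfl
  · refine key J hJJ hJT ?_
    rw [hYJ, one_smul, hYv]
  have hYJ' : ∀ w, Y (J w) = -J (Y w) := by
    intro w; rw [hYJ, neg_smul, one_smul]
  -- the product relation
  obtain ⟨η, hη, hprod⟩ := prod' hF hn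
  have hTd : ∃ e0 : ZMod 7, e0 * e0 = 1 ∧ T d v = e0 • T c (T b (T a v)) := by
    refine ⟨δ * η, ?_, ?_⟩
    · linear_combination hδ * (η * η) + hη
    · have h1 := hprod v
      rw [hTv] at h1
      simp only [map_smul] at h1
      have h2 : T d v = δ • δ • T c (T c (T b (T b (T a (T a (T d v)))))) := by
        rw [hF.sq, hF.sq, hF.sq, smul_smul, hδ, one_smul]
      have h3 : δ • T a (T b (T c (T d v))) = η • v := h1
      have h4 : T a (T b (T c (T d v))) = (δ * η) • v := by
        rw [mul_smul, ← h3, smul_smul, hδ, one_smul]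
      have h5 : T b (T c (T d v)) = (δ * η) • T a v := by
        rw [← map_smul, ← h4, hF.sq]
      have h6 : T c (T d v) = (δ * η) • T b (T a v) := by
        rw [← map_smul, ← h5, hF.sq]
      rw [← map_smul, ← h6, hF.sq]
  obtain ⟨e0, he0, hTd⟩ := hTd
  have hσc : σ c = c ∨ σ c = d := by
    have h0 := (hinv c).1
    rcases exh hn (σ c) with h | h | h | h | h
    · exfalso
      rw [h] at h0
      rcases hσ with ⟨h1, h2⟩ | ⟨h1, h2⟩
      · exact hac (h1.symm.trans h0)
      · exact hbc (h1.symm.trans h0)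
    · exfalso
      rw [h] at h0
      rcases hσ with ⟨h1, h2⟩ | ⟨h1, h2⟩
      · exact hbc (h2.symm.trans h0)
      · exact hac (h2.symm.trans h0)
    · exact Or.inl h
    · exact Or.inr h
    · exfalso
      rw [h, hσk] at h0
      exact hck h0.symm
  have hYI : ∃ e : ZMod 7, e * e = 1 ∧ (Y (I v) = e • I v ∨ Y (I v) = e • J (I v)) := by
    have h0 : Y (I v) = (ε a * ε c) • T (σ a) (T (σ c) v) := by
      rw [hIw, hY.perm, hY.perm, map_smul, smul_smul, hYv]
    have h00 : (ε a * ε c) * (ε a * ε c) = 1 := by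
      linear_combination (hY.sgn a) * (ε c * ε c) + hY.sgn c
    have hσa : σ a = a ∨ σ a = b := by
      rcases hσ with ⟨h1, -⟩ | ⟨h1, -⟩
      · exact Or.inl h1
      · exact Or.inr h1
    rcases hσa with h1 | h1 <;> rcases hσc with h2 | h2 <;> rw [h1, h2] at h0
    · exact ⟨_, h00, Or.inl h0⟩
    · refine ⟨(ε a * ε c) * e0, by linear_combination h00 * (e0 * e0) + he0, Or.inr ?_⟩
      rw [h0, hTd, map_smul, hF.anti a c hac, hF.anti a b hab, map_neg, hF.sq, neg_neg, mul_smul _ e0, hJI,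
        hF.anti c b (Ne.symm hbc)]
    · refine ⟨-(ε a * ε c), by linear_combination h00, Or.inr ?_⟩
      rw [h0, hJI, neg_smul, smul_neg, neg_neg]
    · refine ⟨(ε a * ε c) * e0, by linear_combination h00 * (e0 * e0) + he0, Or.inl ?_⟩
      rw [h0, hTd, map_smul, hF.anti b c hbc, hF.sq, mul_smul _ e0, hIw, hF.anti a c hac]
  obtain ⟨e, he, hYI⟩ := hYI
  rcases hYI with h1 | h1
  · rcases sign e he with rfl | rfl
    · refine key I hII hIT ?_
      rw [h1, one_smul]
    · refine key (J ∘ₗ I) hXX hXT ?_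
      change Y (J (I v)) = J (I v)
      rw [hYJ', h1, neg_smul, one_smul, map_neg, neg_neg]
  · have hu : T k (I v) = δ • I v := by rw [← hIT, hTv, map_smul]
    obtain ⟨α, β, hαβ⟩ := span' hM hF hδ hJJ hJT hv hTv hu
    have h2 : (α + e * β) • v = (e * (α + e * β)) • J v := by
      have h3 : Y (I v) = α • v - β • J v := by
        rw [hαβ, map_add, map_smul, map_smul, hYv, hYJ', hYv, smul_neg, sub_eq_add_neg]
      rw [h3, hαβ, map_add, map_smul, map_smul, hJJ, smul_neg, smul_add, smul_neg, smul_smul, smul_smul] at h1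
      have h4 : α • v + (e * β) • v = (e * α) • J v + β • J v := by
        have := congrArg (fun w => w + β • J v + (e * β) • v) h1
        calc α • v + (e * β) • v = α • v - β • J v + β • J v + (e * β) • v := by abel
          _ = (e * α) • J v + -((e * β) • v) + β • J v + (e * β) • v := this
          _ = (e * α) • J v + β • J v := by abel
      rw [add_smul, h4, ← add_smul]
      congr 1
      linear_combination (-β) * he
    have h3 : α = -(e * β) := by
      by_contra hne
      have h4 : α + e * β ≠ 0 := fun h => hne (eq_neg_of_add_eq_zero_left h)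
      have h5 : v = e • J v := by
        have h6 : (α + e * β) • (v - e • J v) = 0 := by
          rw [smul_sub, h2, smul_smul, mul_comm e, sub_self]
        rcases smul_eq_zero.1 h6 with h7 | h7
        · exact absurd h7 h4
        · exact sub_eq_zero.1 h7
      have h6 : J v = -(e • v) := by
        nth_rewrite 1 [h5]
        rw [map_smul, hJJ, smul_neg]
      rw [h6, smul_neg, smul_smul, he, one_smul] at h5
      exact hv (eq_zero_of_neg h5)
    have h4 : (α * α + β * β) • v = -v := by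
      have h5 := hII v
      have h6 : I (I v) = α • I v + β • I (J v) := by
        have := congrArg I hαβ
        rwa [map_add, map_smul, map_smul] at this
      rw [← h5, h6, hIJ, hαβ, map_add, map_smul, map_smul, hJJ]
      module
    have h5 : α * α + β * β = -1 := by
      have h6 : (α * α + β * β + 1) • v = 0 := by rw [add_smul, h4, one_smul, neg_add_cancel]
      rcases smul_eq_zero.1 h6 with h7 | h7
      · exact eq_neg_of_add_eq_zero_left h7
      · exact absurd h7 hv
    refine no_sqrt2 β e he ?_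
    rw [← h5, h3]
    ring

theorem Nm.fixk (hF : Fr T) (hY : Nm T Y σ ε) {k : Fin 5} {δ : ZMod 7} (hδ : δ * δ = 1) {v : M} (hv : v ≠ 0)
    (hTv : T k v = δ • v) (hYv : Y v = v) : σ k = k := by
  by_contra hne
  have h1 := hY.perm k v
  rw [hTv, map_smul, hYv] at h1
  have h2 : T (σ k) v = (ε k * δ) • v := by
    rw [mul_smul, h1, smul_smul, hY.sgn, one_smul]
  have h3 := hF.anti _ _ hne v
  rw [hTv, map_smul, h2, map_smul, hTv, smul_smul, smul_smul] at h3
  have h4 : δ * (ε k * δ) = ε k := by linear_combination (ε k) * hδ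
  have h5 : ε k * δ * δ = ε k := by linear_combination (ε k) * hδ
  rw [h4, h5] at h3
  have h6 := eq_zero_of_neg h3
  apply hv
  rw [← one_smul (ZMod 7) v, ← hY.sgn k, mul_smul, h6, smul_zero]

theorem core [Finite M] (hM : Nat.card M = 7 ^ 4) (hF : Fr T) (hY : Nm T Y σ ε) (hY1 : ∃ w, Y w ≠ w) {k : Fin 5}
    {δ : ZMod 7} (hδ : δ * δ = 1) {v : M} (hv : v ≠ 0) (hTv : T k v = δ • v) (hYv : Y v = v) :
    ∀ w, Y w = δ • T k w := by
  have hσk := hY.fixk hF hδ hv hTv hYv
  exact caseA hF hY hδ hv hTv (caseB hM hF hY hδ hv hTv hYv hσk) hY1 hσk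

theorem comm_imp [Finite M] (hM : Nat.card M = 7 ^ 4) (hF : Fr T) (hY : Nm T Y σ ε) (hY1 : ∃ w, Y w ≠ w)
    (hY2 : ∃ w, Y w ≠ -w) {k : Fin 5} (hk : ∀ v, Y (T k v) = T k (Y v)) :
    ∃ δ : ZMod 7, δ * δ = 1 ∧ ∀ w, Y w = δ • T k w := by
  obtain ⟨v, hv⟩ := hY2
  have hw : v + Y v ≠ 0 := fun h => hv (eq_neg_of_add_eq_zero_right h)
  have hYw : Y (v + Y v) = v + Y v := by rw [map_add, hY.sq, add_comm]
  set w := v + Y v
  by_cases hu : w + T k w = 0
  · have hu' : w - T k w ≠ 0 := by
      intro h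
      have h1 : w + w = 0 := by
        calc w + w = (w + T k w) + (w - T k w) := by abel
          _ = 0 := by rw [hu, h, add_zero]
      apply hw
      rw [← half_half w, h1, smul_zero]
    have h1 : (-1 : ZMod 7) * -1 = 1 := by ring
    refine ⟨-1, h1, core hM hF hY hY1 h1 hu' ?_ ?_⟩
    · rw [map_sub, hF.sq, neg_smul, one_smul, neg_sub]
    · rw [map_sub, hk, hYw]
  · refine ⟨1, one_mul 1, core hM hF hY hY1 (one_mul 1) hu ?_ ?_⟩
    · rw [map_add, hF.sq, one_smul, add_comm]
    · rw [map_add, hk, hYw]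

end seven

section final

variable {M : Type u} [AddCommGroup M] [Fact (Nat.Prime 7)] [Module (ZMod 7) M]

theorem toFr {t : Fin 5 → (M ≃ₗ[ZMod 7] M)} (ht : Frame5 t) : Fr (fun k => (t k : M →ₗ[ZMod 7] M)) :=
  ⟨fun k v => LinearEquiv.congr_fun (ht.sq k) v, fun j k h v => ht.anti j k h v, ht.prod⟩

theorem toNm {t : Fin 5 → (M ≃ₗ[ZMod 7] M)} {P : Subgroup (M ≃ₗ[ZMod 7] M)} (hn : Norm5 t P) {y : M ≃ₗ[ZMod 7] M}
    (hy : y ∈ H662.HT.Inv P) : ∃ σ : Fin 5 → Fin 5, ∃ ε : Fin 5 → ZMod 7,
      Nm (fun k => (t k : M →ₗ[ZMod 7] M)) (y : M →ₗ[ZMod 7] M) σ ε := by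
  classical
  choose σ hσ using hn y hy.1
  refine ⟨σ, fun k => if (∀ v : M, y (t k v) = t (σ k) (y v)) then 1 else -1, ?_, ?_, ?_⟩
  · intro v
    exact LinearEquiv.congr_fun hy.2.1 v
  · intro k
    split_ifs
    · ring
    · ring
  · intro k v
    change y (t k v) = (if (∀ v : M, y (t k v) = t (σ k) (y v)) then (1 : ZMod 7) else -1) • t (σ k) (y v)
    split_ifs with h
    · rw [one_smul, h]
    · rcases hσ k with h1 | h1
      · exact absurd h1 h
      · rw [h1, neg_smul, one_smul]

end final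

/-- C3a -/
theorem seven_unique {M : Type u} [AddCommGroup M] [Fact (Nat.Prime 7)] [Module (ZMod 7) M] [Finite M]
    (hM : Nat.card M = 7 ^ 4) {t : Fin 5 → (M ≃ₗ[ZMod 7] M)} (ht : Frame5 t) {P : Subgroup (M ≃ₗ[ZMod 7] M)}
    (hn : Norm5 t P) {y : M ≃ₗ[ZMod 7] M} (hy : y ∈ H662.HT.Inv P) {k : Fin 5} {v : M} (hv : v ≠ 0) (hyv : y v = v) :
    (t k v = v → y = t k) ∧ (t k v = -v → ∀ w : M, y w = -(t k w)) := by
  have hF := toFr ht
  obtain ⟨σ, ε, hY⟩ := toNm hn hy
  have hY1 : ∃ w, (y : M →ₗ[ZMod 7] M) w ≠ w := by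
    by_contra h
    push Not at h
    exact hy.2.2.1 (LinearEquiv.ext h)
  constructor
  · intro h
    ext w
    have := core hM hF hY hY1 (one_mul 1) (k := k) hv (by rw [one_smul]; exact h) hyv w
    rw [one_smul] at this
    exact this
  · intro h w
    have h1 : (-1 : ZMod 7) * -1 = 1 := by ring
    have := core hM hF hY hY1 h1 (k := k) hv (by rw [neg_smul, one_smul]; exact h) hyv w
    rw [neg_smul, one_smul] at this
    exact this

/-- C3a -/
theorem seven_type {M : Type u} [AddCommGroup M] [Fact (Nat.Prime 7)] [Module (ZMod 7) M] [Finite M]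
    (hM : Nat.card M = 7 ^ 4) {t : Fin 5 → (M ≃ₗ[ZMod 7] M)} (ht : Frame5 t) {P : Subgroup (M ≃ₗ[ZMod 7] M)}
    (hn : Norm5 t P) {y : M ≃ₗ[ZMod 7] M} (hy : y ∈ H662.HT.Inv P) :
    (∃ k, y = t k ∨ ∀ w : M, y w = -(t k w)) ∨
    ∃ a b : Fin 5, a ≠ b ∧ ((∀ v, y (t a v) = t b (y v)) ∨ (∀ v, y (t a v) = -(t b (y v)))) ∧
      ∀ c, c ≠ a → c ≠ b → ∀ v, y (t c v) = -(t c (y v)) := by
  have hF := toFr ht
  obtain ⟨σ, ε, hY⟩ := toNm hn hy
  set T := fun k => (t k : M →ₗ[ZMod 7] M) with hT
  set Y := (y : M →ₗ[ZMod 7] M) with hYdef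
  have hTt : ∀ k v, T k v = t k v := fun k v => rfl
  have hYy : ∀ v, Y v = y v := fun v => rfl
  have hY1 : ∃ w, Y w ≠ w := by
    by_contra h
    push Not at h
    exact hy.2.2.1 (LinearEquiv.ext h)
  have hY2 : ∃ w, Y w ≠ -w := hy.2.2.2
  by_cases hcomm : ∃ k, ∀ v, Y (T k v) = T k (Y v)
  · left
    obtain ⟨k, hk⟩ := hcomm
    obtain ⟨δ, hδ, h⟩ := comm_imp hM hF hY hY1 hY2 hk
    refine ⟨k, ?_⟩
    rcases sign δ hδ with rfl | rfl
    · left
      ext w
      have := h w
      rw [one_smul] at this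
      exact this
    · right
      intro w
      have := h w
      rw [neg_smul, one_smul] at this
      exact this
  · right
    obtain ⟨v, hv⟩ := hY1
    have hv0 : v ≠ 0 := by
      rintro rfl
      exact hv (map_zero _)
    have hinv := hY.invol hF hv0
    have hneg : ∀ k, σ k = k → ε k = -1 := by
      intro k hk
      rcases sign _ (hY.sgn k) with h | h
      · exfalso
        apply hcomm
        refine ⟨k, fun w => ?_⟩
        rw [hY.perm, h, hk, one_smul]
      · exact h
    have hprodY : ∀ a b c d e : Fin 5, ∀ w, Y (T a (T b (T c (T d (T e w))))) =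
        (ε a * ε b * ε c * ε d * ε e) • T (σ a) (T (σ b) (T (σ c) (T (σ d) (T (σ e) (Y w))))) := by
      intro a b c d e w
      simp only [hY.perm, map_smul, smul_smul, mul_assoc]
    have hYv0 : Y v ≠ 0 := by
      intro h
      apply hv0
      rw [← hY.sq v, h, map_zero]
    -- a fixed point
    obtain ⟨e, he⟩ : ∃ e, σ e = e := by
      have hσi : Function.Involutive σ := fun k => (hinv k).1
      have : Fact (Nat.Prime 2) := ⟨Nat.prime_two⟩
      obtain ⟨e, he⟩ := Equiv.Perm.exists_fixed_point_of_prime (p := 2) (n := 1) (σ := hσi.toPerm σ)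
        (by rw [Fintype.card_fin]; decide) (by
          ext k
          rw [pow_one, sq, Equiv.Perm.mul_apply, Equiv.Perm.one_apply]
          exact congrArg Fin.val ((hinv k).1))
      exact ⟨e, he⟩
    by_cases hall : ∀ i, σ i = i
    · exfalso
      obtain ⟨η, hη, hp⟩ := prod' hF (a := 0) (b := 1) (c := 2) (d := 3) (e := 4) (by decide)
      have h1 := hprodY 0 1 2 3 4 v
      simp only [hall, hp, map_smul, hneg _ (hall _)] at h1
      have h2 : ((-1 : ZMod 7) * -1 * -1 * -1 * -1) = -1 := by ring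
      rw [h2, neg_smul, one_smul] at h1
      have h3 := eq_zero_of_neg h1
      apply hYv0
      rw [← one_smul (ZMod 7) (Y v), ← hη, mul_smul, h3, smul_zero]
    · push Not at hall
      obtain ⟨a, ha⟩ := hall
      obtain ⟨b, hb⟩ : ∃ b, σ a = b := ⟨_, rfl⟩
      have hσb : σ b = a := by rw [← hb]; exact (hinv a).1
      have hab : a ≠ b := by rw [← hb]; exact Ne.symm ha
      have hae : a ≠ e := by rintro rfl; exact ha he
      have hbe : b ≠ e := by
        rintro rfl
        exact hab (hσb.symm.trans he)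
      obtain ⟨c, d, hnd⟩ := exists_compl a b e hab hae hbe
      have hn' := hnd
      simp only [List.nodup_cons, List.mem_cons, not_or, List.not_mem_nil, not_false_eq_true, List.nodup_nil,
        and_true] at hn'
      obtain ⟨⟨-, hac, had, -⟩, ⟨hbc, hbd, -⟩, ⟨hcd, hce⟩, hde⟩ := hn'
      have hσcd : ∀ x, x ≠ a → x ≠ b → x ≠ e → σ x = c ∨ σ x = d := by
        intro x hxa hxb hxe
        have h0 := (hinv x).1
        rcases exh hnd (σ x) with h | h | h | h | h
        · exfalso; rw [h, hb] at h0; exact hxb h0.symm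
        · exfalso; rw [h, hσb] at h0; exact hxa h0.symm
        · exact Or.inl h
        · exact Or.inr h
        · exfalso; rw [h, he] at h0; exact hxe h0.symm
      refine ⟨a, b, hab, ?_, ?_⟩
      · rcases sign _ (hY.sgn a) with h | h
        · left
          intro w
          have := hY.perm a w
          rw [h, one_smul, hb] at this
          exact this
        · right
          intro w
          have := hY.perm a w
          rw [h, neg_smul, one_smul, hb] at this
          exact this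
      · have hσc : σ c = c := by
          rcases hσcd c (Ne.symm hac) (Ne.symm hbc) hce with h | h
          · exact h
          · exfalso
            have hσd : σ d = c := by rw [← h]; exact (hinv c).1
            obtain ⟨η, hη, hp⟩ := prod' hF hnd
            have h1 := hprodY a b c d e v
            have h2 := (hinv a).2
            have h3 := (hinv c).2
            rw [hb] at h2
            rw [h] at h3
            have h4 : ε a * ε b * ε c * ε d * ε e = -1 := by
              rw [hneg e he]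
              linear_combination (-(ε c * ε d)) * h2 - h3
            rw [hp, hb, hσb, h, hσd, he, h4, map_smul, hF.anti b a (Ne.symm hab), hF.anti d c (Ne.symm hcd),
              map_neg, map_neg, neg_neg, hp, neg_smul, one_smul] at h1
            have h3 := eq_zero_of_neg h1
            apply hYv0
            rw [← one_smul (ZMod 7) (Y v), ← hη, mul_smul, h3, smul_zero]
        have hσd : σ d = d := by
          rcases hσcd d (Ne.symm had) (Ne.symm hbd) hde with h | h
          · exfalso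
            have h0 := (hinv d).1
            rw [h, hσc] at h0
            exact hcd h0
          · exact h
        intro x hxa hxb w
        have hσx : σ x = x := by
          rcases exh hnd x with h | h | h | h | h
          · exact absurd h hxa
          · exact absurd h hxb
          · rw [h]; exact hσc
          · rw [h]; exact hσd
          · rw [h]; exact he
        have := hY.perm x w
        rw [hneg x hσx, neg_smul, one_smul, hσx] at this
        exact this

end Cfsg.Agent.H486.HT
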