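import Cfsg.Agent.H662.HT.Sym

/-!
# S3540 / S3577, task A3 (helper486): the number of special vectors

`card_spec` : double counting of the special vectors by downward induction on the order of `S`.
-/

set_option autoImplicit false

open scoped commutatorElement
open Finset

namespace Cfsg.Agent.H486.HT

open Cfsg.Agent.H662.HT

universe u v

variable {s a : ℕ} {N : Type u} {V : Type v} [Group N] [AddCommGroup V] [DistribMulAction N V]

/-- a subgroup of order `s` of the centre containing all elements of order dividing `s` of the centre -/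
theorem exists_omega (H : Sym s a N V) : ∃ ω : N, ω ∈ Subgroup.center N ∧ orderOf ω = s ∧
    ∀ z ∈ Subgroup.center N, z ^ s = 1 → z ∈ Subgroup.zpowers ω := by
  classical
  have := H.fin
  have hs := H.hs
  have : Fact s.Prime := ⟨hs⟩
  obtain ⟨x, y, hxy⟩ : ∃ x y : N, ⁅x, y⁆ ≠ 1 := by
    by_contra hcon
    push Not at hcon
    have h1 : Subgroup.center N = ⊤ := by
      rw [eq_top_iff]
      intro x _
      rw [Subgroup.mem_center_iff]
      intro y
      exact (commutatorElement_eq_one_iff_mul_comm.1 (hcon y x))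
    have h2 := H.card
    rw [h1, Subgroup.card_top] at h2
    have h3 : 1 < s ^ (2 * a) := Nat.one_lt_pow (by have := H.ha; omega) hs.one_lt
    have h4 : 0 < Nat.card N := Nat.card_pos
    nlinarith
  refine ⟨⁅x, y⁆, H.comm x y, orderOf_eq_prime (H.comm_pow x y) hxy, fun z hz hzs => ?_⟩
  -- both generate the subgroup of order `s` of the cyclic group
  have hcyc := H.cyc
  let A := Subgroup.center N
  have : Fintype A := Fintype.ofFinite _
  let w : A := ⟨⁅x, y⁆, H.comm x y⟩
  have hw : orderOf w = s := by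
    rw [Subgroup.orderOf_mk]
    exact orderOf_eq_prime (H.comm_pow x y) hxy
  have h5 : (univ.filter fun z : A => z ^ s = 1).card ≤ s := IsCyclic.card_pow_eq_one_le hs.pos
  have h6 : (univ.filter fun z : A => z ∈ Subgroup.zpowers w).card = s := by
    have h7 : Nat.card (Subgroup.zpowers w) = s := by rw [Nat.card_zpowers, hw]
    rw [← h7, Nat.card_eq_fintype_card, Fintype.card_subtype]
  have h8 : (univ.filter fun z : A => z ∈ Subgroup.zpowers w) ⊆ univ.filter fun z : A => z ^ s = 1 := by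
    intro z hz
    rw [mem_filter] at hz ⊢
    refine ⟨mem_univ _, ?_⟩
    obtain ⟨i, rfl⟩ := hz.2
    change (w ^ i) ^ s = 1
    rw [← zpow_natCast, ← zpow_mul, mul_comm, zpow_mul, zpow_natCast, ← hw, pow_orderOf_eq_one, one_zpow]
  have h9 := Finset.eq_of_subset_of_card_le h8 (by rw [h6]; exact h5)
  have h10 : (⟨z, hz⟩ : A) ∈ univ.filter fun z : A => z ∈ Subgroup.zpowers w := by
    rw [h9, mem_filter]
    exact ⟨mem_univ _, Subtype.ext hzs⟩
  obtain ⟨i, hi⟩ := (mem_filter.1 h10).2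
  exact ⟨i, congrArg Subtype.val hi⟩

/-- the product of a subgroup and a cyclic group of order `s` centralising it -/
theorem card_sup (H : Sym s a N V) {S : Subgroup N} {n : N} (hn : n ∈ Subgroup.centralizer (S : Set N))
    (hs1 : n ^ s = 1) (hnS : n ∉ S) : Nat.card ↥(S ⊔ Subgroup.zpowers n) = Nat.card S * s ∧
      ∀ x ∈ S ⊔ Subgroup.zpowers n, ∃ t ∈ S, ∃ i : ℤ, x = t * n ^ i := by
  have := H.fin
  have hs := H.hs
  have : Fact s.Prime := ⟨hs⟩
  have ho : orderOf n = s := orderOf_eq_prime hs1 (fun h => hnS (h ▸ S.one_mem))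
  have hcomm : ∀ (t : S) (m : Subgroup.zpowers n), Commute (S.subtype t) ((Subgroup.zpowers n).subtype m) := by
    rintro ⟨t, ht⟩ ⟨m, i, rfl⟩
    have h1 : t * n = n * t := (Subgroup.mem_centralizer_iff.1 hn t ht)
    exact Commute.zpow_right h1 i
  let φ := MonoidHom.noncommCoprod S.subtype (Subgroup.zpowers n).subtype hcomm
  have hφ : ∀ x, φ x = (x.1 : N) * (x.2 : N) := fun x => rfl
  have hr : φ.range = S ⊔ Subgroup.zpowers n := by
    rw [MonoidHom.noncommCoprod_range, Subgroup.range_subtype, Subgroup.range_subtype]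
  have hinj : Function.Injective φ := by
    rw [injective_iff_map_eq_one]
    rintro ⟨⟨t, ht⟩, ⟨m, i, rfl⟩⟩ hx
    rw [hφ] at hx
    change t * n ^ i = 1 at hx
    have h1 : n ^ i ∈ S := by
      have : n ^ i = t⁻¹ := eq_inv_of_mul_eq_one_right hx
      rw [this]; exact S.inv_mem ht
    by_cases hd : (s : ℤ) ∣ i
    · have h2 : n ^ i = 1 := by rwa [← orderOf_dvd_iff_zpow_eq_one, ho]
      rw [h2, mul_one] at hx
      refine Prod.ext (Subtype.ext hx) (Subtype.ext h2)
    · exfalso
      apply hnS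
      have h3 : IsCoprime (s : ℤ) i := (Nat.prime_iff_prime_int.1 hs).coprime_iff_not_dvd.2 hd
      obtain ⟨u, v, huv⟩ := h3
      have h4 : n = (n ^ i) ^ v := by
        rw [← zpow_mul]
        have : n ^ (u * (s : ℤ) + v * i) = n := by rw [huv, zpow_one]
        rw [zpow_add, zpow_mul' n u s, zpow_natCast, hs1, one_zpow, one_mul] at this
        rw [mul_comm i v]; exact this.symm
      rw [h4]
      exact S.zpow_mem h1 v
  refine ⟨?_, fun x hx => ?_⟩
  · rw [← hr, ← Nat.card_congr (MonoidHom.ofInjective hinj).toEquiv, Nat.card_prod, Nat.card_zpowers, ho]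
  · rw [← hr] at hx
    obtain ⟨⟨t, m⟩, rfl⟩ := hx
    obtain ⟨i, hi⟩ := m.2
    refine ⟨t, t.2, i, ?_⟩
    rw [hφ, ← hi]

/-- elements of a stabiliser outside `S` are new solutions -/
theorem stab_sol (H : Sym s a N V) {S : Subgroup N} {v : V} (hv : v ≠ 0) (hS : S ≤ MulAction.stabilizer N v) {n : N}
    (hn : n ∈ MulAction.stabilizer N v) : n ∈ sol s S := by
  have h0 := H.stab_inf hv
  refine ⟨?_, H.expS h0 hn⟩
  rw [Subgroup.mem_centralizer_iff]
  intro t ht
  exact H.commS h0 (hS ht) hn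

/-- `S Ω` -/
def SO (S : Subgroup N) (ω : N) : Subgroup N := S ⊔ Subgroup.zpowers ω

section

variable {ω : N}

theorem mem_SO {S : Subgroup N} (hω : ω ∈ Subgroup.center N) {x : N} :
    x ∈ SO S ω ↔ ∃ t ∈ S, ∃ i : ℤ, x = t * ω ^ i := by
  constructor
  · intro hx
    have h1 : (Subgroup.zpowers ω).Normal := by
      constructor
      rintro _ ⟨i, rfl⟩ g
      refine ⟨i, ?_⟩
      have h2 := Subgroup.mem_center_iff.1 ((Subgroup.center N).zpow_mem hω i) g
      change ω ^ i = g * ω ^ i * g⁻¹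
      rw [h2, mul_inv_cancel_right]
    obtain ⟨t, ht, m, ⟨i, rfl⟩, rfl⟩ := Subgroup.mem_sup_of_normal_right.1 hx
    exact ⟨t, ht, i, rfl⟩
  · rintro ⟨t, ht, i, rfl⟩
    exact Subgroup.mul_mem_sup ht ⟨i, rfl⟩

end

section count

variable [Fintype N] [Fintype V] {ω : N} {r : ℕ}

open Classical in
/-- the special vectors fixed by `S` -/
noncomputable def X (s r : ℕ) {N : Type u} (V : Type v) [Group N] [AddCommGroup V] [DistribMulAction N V] [Fintype V]
    (S : Subgroup N) : Finset V :=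
  univ.filter fun v => v ∈ fixp V S ∧ v ∈ spec s r N V

open Classical in
/-- the new solutions -/
noncomputable def TS (s : ℕ) {N : Type u} [Group N] [Fintype N] (S : Subgroup N) (ω : N) : Finset N :=
  univ.filter fun n => n ∈ sol s S ∧ n ∉ SO S ω

omit [Fintype N] in
theorem mem_X {S : Subgroup N} {v : V} : v ∈ X s r V S ↔ v ∈ fixp V S ∧ v ∈ spec s r N V := by
  classical
  rw [X, mem_filter]
  exact ⟨fun h => h.2, fun h => ⟨mem_univ _, h⟩⟩

theorem mem_TS {S : Subgroup N} {n : N} : n ∈ TS s S ω ↔ n ∈ sol s S ∧ n ∉ SO S ω := by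
  classical
  rw [TS, mem_filter]
  exact ⟨fun h => h.2, fun h => ⟨mem_univ _, h⟩⟩

omit [Fintype N] [Fintype V] in
theorem SO_sub (H : Sym s a N V) {S : Subgroup N} (hS : S ⊓ Subgroup.center N = ⊥) (hω : ω ∈ Subgroup.center N)
    (ho : orderOf ω = s) : ∀ x ∈ SO S ω, x ∈ sol s S := by
  intro x hx
  obtain ⟨t, ht, i, rfl⟩ := (mem_SO hω).1 hx
  have hc := (Subgroup.center N).zpow_mem hω i
  refine ⟨?_, ?_⟩
  · rw [Subgroup.mem_centralizer_iff]
    intro u hu
    have h1 : u * t = t * u := H.commS hS hu ht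
    have h2 := Subgroup.mem_center_iff.1 hc u
    rw [← mul_assoc, h1, mul_assoc, h2, mul_assoc]
  · have hcomm : Commute t (ω ^ i) := Subgroup.mem_center_iff.1 hc t
    rw [hcomm.mul_pow, H.expS hS ht, one_mul, ← zpow_natCast, ← zpow_mul, mul_comm, zpow_mul, zpow_natCast, ← ho,
      pow_orderOf_eq_one, one_zpow]

omit [Fintype N] [Fintype V] in
theorem card_SO (H : Sym s a N V) {S : Subgroup N} (hS : S ⊓ Subgroup.center N = ⊥) (hω : ω ∈ Subgroup.center N)
    (ho : orderOf ω = s) : Nat.card (SO S ω) = Nat.card S * s := by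
  refine (card_sup H ?_ ?_ ?_).1
  · rw [Subgroup.mem_centralizer_iff]
    intro u _
    exact Subgroup.mem_center_iff.1 hω u
  · rw [← ho]; exact pow_orderOf_eq_one ω
  · intro h
    have h1 : ω ∈ S ⊓ Subgroup.center N := Subgroup.mem_inf.2 ⟨h, hω⟩
    rw [hS, Subgroup.mem_bot] at h1
    rw [h1, orderOf_one] at ho
    exact H.hs.one_lt.ne ho

omit [Fintype V] in
theorem card_TS (H : Sym s a N V) {S : Subgroup N} (hS : S ⊓ Subgroup.center N = ⊥) (hω : ω ∈ Subgroup.center N)
    (ho : orderOf ω = s) : (TS s S ω).card = Nat.card (sol s S) - Nat.card S * s := by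
  classical
  have h1 : TS s S ω = (univ.filter fun n => n ∈ sol s S) \ (univ.filter fun n => n ∈ SO S ω) := by
    ext n
    rw [mem_TS, mem_sdiff, mem_filter, mem_filter]
    simp
  have h2 : (univ.filter fun n => n ∈ SO S ω) ⊆ (univ.filter fun n => n ∈ sol s S) := by
    intro n hn
    rw [mem_filter] at hn ⊢
    exact ⟨hn.1, SO_sub H hS hω ho n hn.2⟩
  rw [h1, card_sdiff_of_subset h2, ← card_SO H hS hω ho, ← Fintype.card_subtype, ← Fintype.card_subtype,
    ← Nat.card_eq_fintype_card, ← Nat.card_eq_fintype_card]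

omit [Fintype V] in
theorem not_mem_of_TS {S : Subgroup N} {n : N} (hn : n ∈ TS s S ω) : n ∉ S := by
  intro h
  exact (mem_TS.1 hn).2 (le_sup_left (a := S) h)

omit [Fintype V] in
theorem inf_TS (H : Sym s a N V) {S : Subgroup N} (hS : S ⊓ Subgroup.center N = ⊥) (hω : ω ∈ Subgroup.center N)
    (ho : ∀ z ∈ Subgroup.center N, z ^ s = 1 → z ∈ Subgroup.zpowers ω) {n : N} (hn : n ∈ TS s S ω) :
    (S ⊔ Subgroup.zpowers n) ⊓ Subgroup.center N = ⊥ := by
  have hs := H.hs
  obtain ⟨⟨hc, hns⟩, hnO⟩ := mem_TS.1 hn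
  rw [eq_bot_iff]
  rintro x ⟨hx, hxc⟩
  obtain ⟨t, ht, i, rfl⟩ := (card_sup H hc hns (not_mem_of_TS hn)).2 x hx
  have hcomm : Commute t n := Subgroup.mem_centralizer_iff.1 hc t ht
  by_cases hd : (s : ℤ) ∣ i
  · obtain ⟨k, rfl⟩ := hd
    have h2 : n ^ ((s : ℤ) * k) = 1 := by rw [zpow_mul, zpow_natCast, hns, one_zpow]
    rw [h2, mul_one] at hxc ⊢
    rw [← hS]
    exact ⟨ht, hxc⟩
  · exfalso
    apply hnO
    obtain ⟨u, v, huv⟩ := (Nat.prime_iff_prime_int.1 hs).coprime_iff_not_dvd.2 hd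
    have h4 : (n ^ i) ^ v = n := by
      rw [← zpow_mul]
      have : n ^ (u * (s : ℤ) + v * i) = n := by rw [huv, zpow_one]
      rw [zpow_add, zpow_mul' n u s, zpow_natCast, hns, one_zpow, one_mul] at this
      rw [mul_comm i v]; exact this
    have h5 : (t * n ^ i) ^ v = t ^ v * n := by
      rw [(hcomm.zpow_right i).mul_zpow, h4]
    have h6 : (t ^ v * n) ∈ Subgroup.center N := by rw [← h5]; exact (Subgroup.center N).zpow_mem hxc v
    have h7 : (t ^ v * n) ^ s = 1 := by
      rw [(hcomm.zpow_left v).mul_pow, hns, mul_one]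
      exact H.expS hS (S.zpow_mem ht v)
    obtain ⟨k, hk⟩ := ho _ h6 h7
    refine (mem_SO hω).2 ⟨(t ^ v)⁻¹, S.inv_mem (S.zpow_mem ht v), k, ?_⟩
    change ω ^ k = t ^ v * n at hk
    rw [hk, inv_mul_cancel_left]

omit [Fintype N] [Fintype V] in
theorem mem_fixp_sup {S : Subgroup N} {n : N} {v : V} :
    v ∈ fixp V (S ⊔ Subgroup.zpowers n) ↔ v ∈ fixp V S ∧ n • v = v := by
  constructor
  · intro h
    exact ⟨fun g hg => h g (le_sup_left (a := S) hg),
      h n (le_sup_right (a := S) (Subgroup.mem_zpowers n))⟩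
  · rintro ⟨h1, h2⟩
    have h3 : S ⊔ Subgroup.zpowers n ≤ MulAction.stabilizer N v := by
      rw [sup_le_iff]
      refine ⟨fun g hg => h1 g hg, ?_⟩
      rw [Subgroup.zpowers_le]
      exact h2
    exact fun g hg => h3 hg

omit [Fintype V] in
theorem stab_diff (H : Sym s a N V) {S : Subgroup N} (hω : ω ∈ Subgroup.center N) {v : V} (hv : v ≠ 0)
    (hf : v ∈ fixp V S) {n : N} : (n ∈ TS s S ω ∧ n • v = v) ↔ (n ∈ MulAction.stabilizer N v ∧ n ∉ S) := by
  have hle : S ≤ MulAction.stabilizer N v := fun g hg => hf g hg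
  constructor
  · rintro ⟨h1, h2⟩
    exact ⟨h2, not_mem_of_TS h1⟩
  · rintro ⟨h1, h2⟩
    refine ⟨mem_TS.2 ⟨stab_sol H hv hle h1, fun h3 => h2 ?_⟩, h1⟩
    obtain ⟨t, ht, i, rfl⟩ := (mem_SO hω).1 h3
    have h4 : ω ^ i ∈ MulAction.stabilizer N v ⊓ Subgroup.center N := by
      refine ⟨?_, (Subgroup.center N).zpow_mem hω i⟩
      have := (MulAction.stabilizer N v).mul_mem ((MulAction.stabilizer N v).inv_mem (hle ht)) h1
      rwa [inv_mul_cancel_left] at this
    rw [H.stab_inf hv, Subgroup.mem_bot] at h4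
    rw [h4, mul_one]; exact ht

open Classical in
theorem card_stab_diff (H : Sym s a N V) {S : Subgroup N} (hω : ω ∈ Subgroup.center N) {v : V}
    (hv : v ∈ X s r V S) : ((TS s S ω).filter fun n => n • v = v).card = s ^ r - Nat.card S := by
  obtain ⟨hf, hv0, hc⟩ := mem_X.1 hv
  have hle : S ≤ MulAction.stabilizer N v := fun g hg => hf g hg
  have h1 : ((TS s S ω).filter fun n => n • v = v) =
      (univ.filter fun n => n ∈ MulAction.stabilizer N v) \ (univ.filter fun n => n ∈ S) := by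
    ext n
    rw [mem_filter, stab_diff H hω hv0 hf, mem_sdiff, mem_filter, mem_filter]
    simp
  have h2 : (univ.filter fun n => n ∈ S) ⊆ (univ.filter fun n => n ∈ MulAction.stabilizer N v) := by
    intro n hn
    rw [mem_filter] at hn ⊢
    exact ⟨hn.1, hle hn.2⟩
  rw [h1, card_sdiff_of_subset h2, ← hc, ← Fintype.card_subtype, ← Fintype.card_subtype,
    ← Nat.card_eq_fintype_card, ← Nat.card_eq_fintype_card]

/-- the double counting -/
theorem step (H : Sym s a N V) {S : Subgroup N} (hω : ω ∈ Subgroup.center N) :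
    ∑ n ∈ TS s S ω, (X s r V (S ⊔ Subgroup.zpowers n)).card = (X s r V S).card * (s ^ r - Nat.card S) := by
  classical
  have h1 := Finset.sum_card_bipartiteAbove_eq_sum_card_bipartiteBelow (s := TS s S ω) (t := X s r V S)
    (fun (n : N) (v : V) => n • v = v)
  have h2 : ∀ n ∈ TS s S ω, (Finset.bipartiteAbove (fun (n : N) (v : V) => n • v = v) (X s r V S) n).card =
      (X s r V (S ⊔ Subgroup.zpowers n)).card := by
    intro n _
    congr 1
    ext v
    rw [Finset.bipartiteAbove, mem_filter, mem_X, mem_X, mem_fixp_sup]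
    tauto
  have h3 : ∀ v ∈ X s r V S, (Finset.bipartiteBelow (fun (n : N) (v : V) => n • v = v) (TS s S ω) v).card =
      s ^ r - Nat.card S := fun v hv => card_stab_diff H hω hv
  rw [Finset.sum_congr rfl h2, Finset.sum_congr rfl h3, Finset.sum_const, smul_eq_mul] at h1
  exact h1

/-- the base of the induction -/
theorem base (H : Sym s a N V) {S : Subgroup N} (hS : S ⊓ Subgroup.center N = ⊥) (hω : ω ∈ Subgroup.center N)
    (ho : orderOf ω = s) (hc : Nat.card S = s ^ r) (hsol : Nat.card (sol s S) = s ^ (r + 1)) :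
    (X s r V S).card = Nat.card (fixp V S) - 1 := by
  classical
  have hT : TS s S ω = ∅ := by
    rw [← card_eq_zero, card_TS H hS hω ho, hsol, hc, pow_succ, Nat.sub_self]
  have h1 : X s r V S = (univ.filter fun v => v ∈ fixp V S).erase 0 := by
    ext v
    rw [mem_X, mem_erase, mem_filter]
    constructor
    · rintro ⟨h1, h2, -⟩
      exact ⟨h2, mem_univ _, h1⟩
    · rintro ⟨h1, -, h2⟩
      refine ⟨h2, h1, ?_⟩
      have h3 : MulAction.stabilizer N v = S := by
        refine le_antisymm (fun n hn => ?_) (fun g hg => h2 g hg)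
        by_contra hnS
        have := ((stab_diff (ω := ω) H hω h1 h2).2 ⟨hn, hnS⟩).1
        rw [hT] at this
        exact absurd this (notMem_empty n)
      rw [h3, hc]
  rw [h1, card_erase_of_mem (mem_filter.2 ⟨mem_univ _, (fixp V S).zero_mem⟩), ← Fintype.card_subtype,
    ← Nat.card_eq_fintype_card]

end count

/-- A3 -/
theorem card_spec (H : Sym s a N V) {r Q : ℕ} {f : ℕ → ℕ}
    (h1 : ∀ S : Subgroup N, S ⊓ Subgroup.center N = ⊥ → ∀ j ≤ r, Nat.card S = s ^ j → Nat.card (sol s S) = f j)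
    (h2 : f r = s ^ (r + 1))
    (h3 : ∀ S : Subgroup N, S ⊓ Subgroup.center N = ⊥ → Nat.card S = s ^ r → Nat.card (fixp V S) = Q) :
    Nat.card (spec s r N V) * ∏ j ∈ range r, (s ^ r - s ^ j) = (Q - 1) * ∏ j ∈ range r, (f j - s ^ (j + 1)) := by
  classical
  have := H.fin
  have := H.finV
  have : Fintype N := Fintype.ofFinite N
  have : Fintype V := Fintype.ofFinite V
  obtain ⟨ω, hω, ho, hΩ⟩ := exists_omega H
  have key : ∀ d j : ℕ, j + d = r → ∀ S : Subgroup N, S ⊓ Subgroup.center N = ⊥ → Nat.card S = s ^ j →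
      (X s r V S).card * ∏ i ∈ Ico j r, (s ^ r - s ^ i) = (Q - 1) * ∏ i ∈ Ico j r, (f i - s ^ (i + 1)) := by
    intro d
    induction d with
    | zero =>
      intro j hj S hS hc
      rw [add_zero] at hj
      subst hj
      rw [Ico_self, prod_empty, prod_empty, mul_one, mul_one, base H hS hω ho hc, h3 S hS hc]
      rw [h1 S hS j le_rfl hc, h2]
    | succ d ih =>
      intro j hj S hS hc
      have hjr : j < r := by omega
      rw [prod_eq_prod_Ico_succ_bot hjr, prod_eq_prod_Ico_succ_bot hjr, ← mul_assoc]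
      have h4 := step (r := r) H (S := S) hω
      rw [hc] at h4
      rw [← h4, sum_mul]
      have h5 : ∀ n ∈ TS s S ω, (X s r V (S ⊔ Subgroup.zpowers n)).card * ∏ i ∈ Ico (j + 1) r, (s ^ r - s ^ i) =
          (Q - 1) * ∏ i ∈ Ico (j + 1) r, (f i - s ^ (i + 1)) := by
        intro n hn
        obtain ⟨⟨hcn, hns⟩, hnO⟩ := mem_TS.1 hn
        refine ih (j + 1) (by omega) _ (inf_TS H hS hω hΩ hn) ?_
        rw [(card_sup H hcn hns (not_mem_of_TS hn)).1, hc, pow_succ]
      rw [sum_congr rfl h5, sum_const, smul_eq_mul, card_TS H hS hω ho, h1 S hS j hjr.le hc, hc, ← pow_succ]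
      ring
  have h4 := key r 0 (zero_add r) ⊥ (bot_inf_eq _) (by rw [Subgroup.card_bot, pow_zero])
  rw [← range_eq_Ico] at h4
  rw [← h4]
  congr 1
  have h5 : X s r V (⊥ : Subgroup N) = univ.filter fun v => v ∈ spec s r N V := by
    ext v
    rw [mem_X, mem_filter]
    constructor
    · rintro ⟨-, h⟩
      exact ⟨mem_univ _, h⟩
    · rintro ⟨-, h⟩
      refine ⟨?_, h⟩
      rw [mem_fixp]
      intro g hg
      rw [Subgroup.mem_bot] at hg
      rw [hg, one_smul]
  rw [h5, ← Fintype.card_subtype, ← Nat.card_eq_fintype_card]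

end Cfsg.Agent.H486.HT
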